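import Cfsg.Agent.Lib.CosetEnum.ON.Sub.CertM11
import Cfsg.Agent.Lib.CosetEnum.ON.Sub.CertJ1
import Cfsg.Agent.Lib.Sporadic.J1.Simple
import Cfsg.Agent.Lib.Golay.Simple
import Cfsg.Agent.Lib.CommGraph.M11

/-!
Standard generators of `J₁` and `M₁₁` inside their models.
-/

set_option autoImplicit false
set_option linter.all false
set_option maxRecDepth 8000

namespace CfsgLib.CosetEnum.ON.Sub

open Subgroup

theorem letter_prod {A B : Type*} [Group A] [Group B] (a b : A × B) (l : List ℕ) :
    (l.map (letter a b)).prod = ((l.map (letter a.1 b.1)).prod, (l.map (letter a.2 b.2)).prod) := by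
  induction l with
  | nil => rfl
  | cons x l ih =>
    rw [List.map_cons, List.prod_cons, ih, List.map_cons, List.prod_cons, List.map_cons, List.prod_cons]
    have e : letter a b x = (letter a.1 b.1 x, letter a.2 b.2 x) := by
      unfold letter; split <;> rfl
    rw [e]; rfl

section J1

open CfsgLib.J1

/-- The words of the letters. -/
def jW : ℕ → List Bool
  | 0 => [true, false, true, true, true, true, false]
  | 1 => [false, true, true, false, false, false, true, false, true]
  | 2 => [false, true, true, false, false, false, true, false, true, false, true, true, false, false, false, true, false, true]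
  | _ => []

/-- The first generator. -/
def jA : Cfsg.Spor.J1 := el (jW 0)
/-- The second generator. -/
def jB : Cfsg.Spor.J1 := el (jW 1)

theorem el_nil' : el [] = 1 := rfl

theorem jletter (x : ℕ) : letter jA jB x = el (jW x) := by
  have hinv : jB⁻¹ = el (jW 2) := by
    refine inv_eq_of_mul_eq_one_right ?_
    rw [jB, ← el_append, ← el_nil', el_eq_iff]
    decide +kernel
  match x with
  | 0 => rfl
  | 1 => rfl
  | 2 => exact hinv
  | x + 3 => exact el_nil'.symm

theorem jprod (l : List ℕ) : (l.map (letter jA jB)).prod = el (l.flatMap jW) := by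
  induction l with
  | nil => rfl
  | cons x l ih => rw [List.map_cons, List.prod_cons, ih, jletter, List.flatMap_cons, el_append]

theorem jrel : ∀ l ∈ CertJ1.lsl, (l.map (letter jA jB)).prod = 1 := by
  intro l hl
  rw [jprod, ← el_nil', el_eq_iff]
  exact (by decide +kernel : ∀ l ∈ CertJ1.lsl, (word gX gY (l.flatMap jW)).beq (word gX gY []) = true) l hl

theorem jgen : Subgroup.closure ({jA, jB} : Set Cfsg.Spor.J1) = ⊤ := by
  have hX : ∀ c : Bool, el [c] ∈ Subgroup.closure ({jA, jB} : Set Cfsg.Spor.J1) := by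
    intro c
    have key : el [c] = ((bif c then [0, 1, 0, 2, 0, 2, 0, 1, 0, 2, 0, 2, 0, 1, 0, 2, 0, 1, 0, 1, 0, 2, 0, 1, 0, 2, 0, 1, 0, 2, 0, 1, 0, 1, 0, 2] else [2, 0, 1, 0, 1, 0, 2, 0, 1, 0, 2, 0, 1, 0, 2, 0, 1, 0, 1, 0, 2, 0, 1, 0, 1, 0, 2, 0]).map (letter jA jB)).prod := by
      rw [jprod, el_eq_iff]
      cases c <;> decide +kernel
    rw [key]
    refine list_prod_mem ?_
    intro y hy
    obtain ⟨x, _, rfl⟩ := List.mem_map.mp hy
    exact letter_mem _ _ x
  refine eq_top_iff.mpr ?_
  rintro ⟨g, hg⟩ -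
  induction hg using Subgroup.closure_induction with
  | mem x hx =>
    rcases hx with rfl | rfl
    · simpa [el] using hX false
    · simpa [el] using hX true
  | one => exact one_mem _
  | mul x y hx hy ihx ihy => exact mul_mem ihx ihy
  | inv x hx ihx => exact inv_mem ihx

end J1

section M11

open CfsgLib.FusionCert CfsgLib.CommGraph

local notation "M" => Subtype (fun x => x ∈ Cfsg.Spor.M11)

/-- The codes of the letters. -/
def mC : ℕ → ℕ
  | 0 => 984246521836818460956491656630404160
  | 1 => 719971591174101102975802272131762208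
  | 2 => 721269307624408231295626002150536224
  | _ => idC

theorem mgen_mem : ∀ c ∈ [984246521836818460956491656630404160, 719971591174101102975802272131762208, 721269307624408231295626002150536224], ∃ g : M, code (Mathieu.repr Cfsg.Spor.M11 g) = c :=
  Mathieu.exists_code_of_memCheck (extra := fun _ c8 => Mathieu.fixesSquares c8 && Mathieu.fixes 0 c8)
    (fun _ _ hσ hp he => Subgroup.mem_inf.2
      ⟨Subgroup.mem_inf.2 ⟨hσ, Mathieu.fixesSquares_spec hp (Bool.and_eq_true_iff.1 he).1⟩,
        Mathieu.fixes_spec (p := some 0) hp (Bool.and_eq_true_iff.1 he).2⟩)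
    (by decide +kernel)

/-- The code of a product of letters. -/
noncomputable def mwordC (l : List ℕ) : ℕ := l.foldr (fun x c => m11Coded.op (mC x) c) m11Coded.e

theorem exists_m11_gens : ∃ a b : M, (∀ l : List ℕ, m11Coded.c ((l.map (letter a b)).prod) = mwordC l) := by
  obtain ⟨a, ha⟩ := mgen_mem (mC 0) (by simp [mC])
  obtain ⟨b, hb⟩ := mgen_mem (mC 1) (by simp [mC])
  obtain ⟨b', hb'⟩ := mgen_mem (mC 2) (by simp [mC])
  have hinv : b⁻¹ = b' := by
    refine inv_eq_of_mul_eq_one_right (m11Coded.inj ?_)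
    rw [m11Coded.c_mul, m11Coded.c_one]
    show fastMul (code (Mathieu.repr Cfsg.Spor.M11 b)) (code (Mathieu.repr Cfsg.Spor.M11 b')) = idC
    rw [hb, hb']
    decide +kernel
  have hl : ∀ x, m11Coded.c (letter a b x) = mC x := by
    rintro (_ | _ | _ | x)
    · exact ha
    · exact hb
    · show m11Coded.c b⁻¹ = _
      rw [hinv]; exact hb'
    · exact m11Coded.c_one
  refine ⟨a, b, fun l => ?_⟩
  induction l with
  | nil => exact m11Coded.c_one
  | cons x l ih => rw [List.map_cons, List.prod_cons, m11Coded.c_mul, hl, ih]; exact (List.foldr_cons (f := fun x c => m11Coded.op (mC x) c) (b := m11Coded.e)).symm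

theorem exists_m11 : ∃ a b : M, (∀ l ∈ CertM11.lsl, (l.map (letter a b)).prod = 1) ∧ Subgroup.closure ({a, b} : Set M) = ⊤ := by
  obtain ⟨a, b, h⟩ := exists_m11_gens
  have hone : ∀ l, mwordC l = idC → (l.map (letter a b)).prod = 1 := fun l hl =>
    m11Coded.inj (by rw [h, hl, m11Coded.c_one]; rfl)
  refine ⟨a, b, fun l hl => hone l ((by decide +kernel : ∀ l ∈ CertM11.lsl, mwordC l = idC) l hl), ?_⟩
  haveI : IsSimpleGroup M := CfsgLib.Golay.isSimple_M11
  haveI : Finite M := Nat.finite_of_card_ne_zero (by rw [CfsgLib.FusionCert.Mathieu.card_M11]; norm_num)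
  have hmem : ∀ l : List ℕ, (l.map (letter a b)).prod ∈ Subgroup.closure ({a, b} : Set M) := fun l => by
    refine list_prod_mem ?_
    intro y hy
    obtain ⟨x, _, rfl⟩ := List.mem_map.mp hy
    exact letter_mem _ _ x
  have hdvd : ∀ (l : List ℕ) (n : ℕ), 0 < n → mwordC (List.replicate n l).flatten = idC →
      (∀ m : Fin n, 0 < m.1 → mwordC (List.replicate m.1 l).flatten ≠ idC) → n ∣ Nat.card (Subgroup.closure ({a, b} : Set M)) := by
    intro l n hn h1 h2
    have hpow : ∀ k, (l.map (letter a b)).prod ^ k = (((List.replicate k l).flatten).map (letter a b)).prod := by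
      intro k
      induction k with
      | zero => simp
      | succ k ih => rw [pow_succ', ih, List.replicate_succ, List.flatten_cons, List.map_append, List.prod_append]
    refine dvd_card_of_pow (hmem l) ((orderOf_eq_iff hn).mpr ⟨?_, fun m hm hm0 e => h2 ⟨m, hm⟩ hm0 ?_⟩)
    · rw [hpow]; exact hone _ h1
    · have := congrArg m11Coded.c e
      rw [hpow, h, m11Coded.c_one] at this
      exact this
  have d11 := hdvd [1, 0] 11 (by norm_num) (by decide +kernel) (by decide +kernel)
  have d8 := hdvd [1, 1, 0, 1, 1, 0, 1, 0] 8 (by norm_num) (by decide +kernel) (by decide +kernel)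
  have d5 := hdvd [1, 1, 0, 1, 1, 1, 0, 1, 0] 5 (by norm_num) (by decide +kernel) (by decide +kernel)
  have d3 := (Dvd.intro 2 rfl : 3 ∣ 6).trans (hdvd [1, 1, 0] 6 (by norm_num) (by decide +kernel) (by decide +kernel))
  refine eq_top_of_dvd (Subgroup.closure ({a, b} : Set M)) (N := 11 * 8 * 5 * 3) (i := 6) ?_ ?_ ?_
  · exact Nat.Coprime.mul_dvd_of_dvd_of_dvd (by norm_num) (Nat.Coprime.mul_dvd_of_dvd_of_dvd (by norm_num)
      (Nat.Coprime.mul_dvd_of_dvd_of_dvd (by norm_num) d11 d8) d5) d3
  · rw [CfsgLib.FusionCert.Mathieu.card_M11]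
  · rw [CfsgLib.FusionCert.Mathieu.card_M11]; decide

end M11

end CfsgLib.CosetEnum.ON.Sub
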