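import Cfsg.Agent.Lib.CosetEnum.ON.Sub.Faithful
import Cfsg.Agent.Lib.CosetEnum.ON.Sub.Models
import Cfsg.Prelude.Def_Sporadic

/-!
`O'N` contains `J₁` and `M₁₁`.
-/

set_option autoImplicit false
set_option linter.all false
set_option maxRecDepth 8000

namespace CfsgLib.CosetEnum.ON.Sub

open Subgroup

local notation "IP" => 18364758542614016535
local notation "G" => Cfsg.Spor.ON

/-- A point moved by every letter used. -/
def secT0 : ℕ := 5

theorem secT0_lt : secT0 < 122760 := by decide +kernel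

theorem inv_word (l : List ℕ) (hl : ∀ x ∈ l, x < 16) :
    ((l.map g).prod)⁻¹ = ((l.reverse.map (linv IP)).map g).prod := by
  induction l with
  | nil => simp
  | cons x l ih =>
    rw [List.map_cons, List.prod_cons, mul_inv_rev, ih (fun y hy => hl y (List.mem_cons_of_mem _ hy)),
      List.reverse_cons, List.map_append, List.map_append, List.prod_append]
    simp [hinv x (hl x (by simp))]

/-- The words of the letters for J1. -/
def jL : ℕ → List ℕ
  | 0 => [4]
  | 1 => [3, 4, 2, 3, 5, 4, 3, 0, 5, 4, 7, 3, 4, 5, 3, 2, 4, 3]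
  | 2 => [3, 4, 2, 3, 5, 4, 3, 0, 4, 5, 7, 3, 4, 5, 3, 2, 4, 3]
  | _ => []

theorem jL_lt : ∀ x < 16, ∀ y ∈ jL x, y < 16 := by decide +kernel

theorem j_letter (x : ℕ) (hx : x < 16) :
    letter (((jL 0).map g).prod) (((jL 1).map g).prod) x = ((jL x).map g).prod := by
  have hi : (((jL 1).map g).prod)⁻¹ = ((jL 2).map g).prod := by
    rw [inv_word _ (jL_lt 1 (by omega)), show ((jL 1).reverse.map (linv IP)) = jL 2 by decide +kernel]
  interval_cases x <;> first | rfl | exact hi

theorem j_rel : ∀ l ∈ CertJ1.lsl, (l.map (letter (((jL 0).map g).prod) (((jL 1).map g).prod))).prod = 1 := by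
  intro l hl
  have hlt : ∀ x ∈ l, x < 16 := (by decide +kernel : ∀ l ∈ CertJ1.lsl, ∀ x ∈ l, x < 16) l hl
  have e : ∀ m : List ℕ, (∀ x ∈ m, x < 16) → (m.map (letter (((jL 0).map g).prod) (((jL 1).map g).prod))).prod = ((m.flatMap jL).map g).prod := by
    intro m hm
    induction m with
    | nil => rfl
    | cons x m ih =>
      rw [List.map_cons, List.prod_cons, ih (fun y hy => hm y (List.mem_cons_of_mem _ hy)), j_letter x (hm x (by simp)),
        List.flatMap_cons, List.map_append, List.prod_append]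
  rw [e l hlt]
  refine word_eq_one _ (fun y hy => ?_) ((by decide +kernel : ∀ l ∈ CertJ1.lsl, fixesBase (l.flatMap jL) = true) l hl)
  obtain ⟨x, hx, hy⟩ := List.mem_flatMap.mp hy
  exact jL_lt x (hlt x hx) y hy

theorem j_ne : ((jL 0).map g).prod ≠ 1 := by
  intro e
  have h := congrArg (fun z : G => ((π z ⟨0, by omega⟩ : Fin 122760) : ℕ)) e
  have h' := congrArg (fun z : G => ((π z ⟨secT0, secT0_lt⟩ : Fin 122760) : ℕ)) e
  simp only [π_word _ (jL_lt 0 (by omega)), map_one, Equiv.Perm.coe_one, id_eq] at h h'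
  exact (by decide +kernel : ¬ (scan table (((jL 0).map (linv IP)).reverse) 0 = 0 ∧
    scan table (((jL 0).map (linv IP)).reverse) secT0 = secT0)) ⟨h, h'⟩

/-- The words of the letters for M11. -/
def mL : ℕ → List ℕ
  | 0 => [3]
  | 1 => [6, 4, 5, 3, 6, 5, 4, 2, 0, 4, 5, 2, 6, 4, 3, 7, 5, 6, 4, 0, 2, 5, 4, 7, 2, 4, 5, 6, 3, 5, 4, 6]
  | 2 => [6, 4, 5, 3, 6, 5, 4, 2, 0, 4, 5, 2, 7, 4, 6, 5, 0, 3, 4, 6, 2, 5, 4, 7, 2, 4, 5, 6, 3, 5, 4, 6]
  | _ => []

theorem mL_lt : ∀ x < 16, ∀ y ∈ mL x, y < 16 := by decide +kernel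

theorem m_letter (x : ℕ) (hx : x < 16) :
    letter (((mL 0).map g).prod) (((mL 1).map g).prod) x = ((mL x).map g).prod := by
  have hi : (((mL 1).map g).prod)⁻¹ = ((mL 2).map g).prod := by
    rw [inv_word _ (mL_lt 1 (by omega)), show ((mL 1).reverse.map (linv IP)) = mL 2 by decide +kernel]
  interval_cases x <;> first | rfl | exact hi

theorem m_rel : ∀ l ∈ CertM11.lsl, (l.map (letter (((mL 0).map g).prod) (((mL 1).map g).prod))).prod = 1 := by
  intro l hl
  have hlt : ∀ x ∈ l, x < 16 := (by decide +kernel : ∀ l ∈ CertM11.lsl, ∀ x ∈ l, x < 16) l hl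
  have e : ∀ m : List ℕ, (∀ x ∈ m, x < 16) → (m.map (letter (((mL 0).map g).prod) (((mL 1).map g).prod))).prod = ((m.flatMap mL).map g).prod := by
    intro m hm
    induction m with
    | nil => rfl
    | cons x m ih =>
      rw [List.map_cons, List.prod_cons, ih (fun y hy => hm y (List.mem_cons_of_mem _ hy)), m_letter x (hm x (by simp)),
        List.flatMap_cons, List.map_append, List.prod_append]
  rw [e l hlt]
  refine word_eq_one _ (fun y hy => ?_) ((by decide +kernel : ∀ l ∈ CertM11.lsl, fixesBase (l.flatMap mL) = true) l hl)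
  obtain ⟨x, hx, hy⟩ := List.mem_flatMap.mp hy
  exact mL_lt x (hlt x hx) y hy

theorem m_ne : ((mL 0).map g).prod ≠ 1 := by
  intro e
  have h := congrArg (fun z : G => ((π z ⟨0, by omega⟩ : Fin 122760) : ℕ)) e
  have h' := congrArg (fun z : G => ((π z ⟨secT0, secT0_lt⟩ : Fin 122760) : ℕ)) e
  simp only [π_word _ (mL_lt 0 (by omega)), map_one, Equiv.Perm.coe_one, id_eq] at h h'
  exact (by decide +kernel : ¬ (scan table (((mL 0).map (linv IP)).reverse) 0 = 0 ∧
    scan table (((mL 0).map (linv IP)).reverse) secT0 = secT0)) ⟨h, h'⟩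

theorem pow_of_rel {X : Type*} [Group X] (a b : X) (p : ℕ) {ls : List (List ℕ)} (h : ∀ l ∈ ls, (l.map (letter a b)).prod = 1)
    (hp : (List.replicate p [0, 1]).flatten ∈ ls) : (a * b) ^ p = 1 := by
  have hk : ∀ k, (((List.replicate k [0, 1]).flatten).map (letter a b)).prod = (a * b) ^ k := by
    intro k
    induction k with
    | zero => simp
    | succ k ih =>
      rw [List.replicate_succ, List.flatten_cons, List.map_append, List.prod_append, ih, pow_succ']
      simp [letter]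
  rw [← hk]
  exact h _ hp

theorem exists_J1 : ∃ K : Subgroup G, Cfsg.IsJ1 K := by
  haveI := CfsgLib.J1.isSimpleGroup
  haveI : Finite Cfsg.Spor.J1 := Nat.finite_of_card_ne_zero (by rw [CfsgLib.J1.card_J1]; norm_num)
  let a : G × Cfsg.Spor.J1 := (((jL 0).map g).prod, jA)
  let b : G × Cfsg.Spor.J1 := (((jL 1).map g).prod, jB)
  have hrel : ∀ l ∈ CertJ1.lsl, (l.map (letter a b)).prod = 1 := fun l hl => by
    rw [letter_prod]; exact Prod.ext (j_rel l hl) (jrel l hl)
  have hle := CertJ1.card_le a b hrel (pow_of_rel a b 7 hrel (by decide +kernel))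
  rw [← CfsgLib.J1.card_J1] at hle
  obtain ⟨f, hf⟩ := exists_embedding a b hle jgen j_ne
  exact ⟨f.range, (MulEquiv.isSimpleGroup_congr (MonoidHom.ofInjective hf)).mp inferInstance,
    (Nat.card_congr (MonoidHom.ofInjective hf).toEquiv).symm.trans CfsgLib.J1.card_J1⟩

theorem exists_M11 : ∃ K : Subgroup G, Cfsg.IsM11 K := by
  haveI : IsSimpleGroup ↥Cfsg.Spor.M11 := CfsgLib.Golay.isSimple_M11
  have hc := CfsgLib.FusionCert.Mathieu.card_M11
  haveI : Finite ↥Cfsg.Spor.M11 := Nat.finite_of_card_ne_zero (by rw [hc]; norm_num)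
  obtain ⟨a₀, b₀, hrel₀, hgen⟩ := exists_m11
  let a : G × ↥Cfsg.Spor.M11 := (((mL 0).map g).prod, a₀)
  let b : G × ↥Cfsg.Spor.M11 := (((mL 1).map g).prod, b₀)
  have hrel : ∀ l ∈ CertM11.lsl, (l.map (letter a b)).prod = 1 := fun l hl => by
    rw [letter_prod]; exact Prod.ext (m_rel l hl) (hrel₀ l hl)
  have hle := CertM11.card_le a b hrel (pow_of_rel a b 11 hrel (by decide +kernel))
  rw [← hc] at hle
  obtain ⟨f, hf⟩ := exists_embedding a b hle hgen m_ne
  exact ⟨f.range, (MulEquiv.isSimpleGroup_congr (MonoidHom.ofInjective hf)).mp inferInstance,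
    (Nat.card_congr (MonoidHom.ofInjective hf).toEquiv).symm.trans hc⟩

end CfsgLib.CosetEnum.ON.Sub
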