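import Cfsg.Agent.Lib.CosetEnum.Index
import Mathlib.GroupTheory.Subgroup.Simple
import Mathlib.GroupTheory.Perm.Subgroup
import Mathlib.GroupTheory.GroupAction.Quotient

/-!
Finding a finite simple group inside a group from a pair of elements satisfying its presentation.
-/

set_option autoImplicit false

namespace CfsgLib.CosetEnum.ON.Sub

open CfsgLib.CosetEnum Subgroup

variable {X : Type*} [Group X]

/-- Letters for two generators, the first an involution. -/
def letter (a b : X) : ℕ → X
  | 0 => a
  | 1 => b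
  | 2 => b⁻¹
  | _ => 1

theorem letter_mem (a b : X) (x : ℕ) : letter a b x ∈ closure ({a, b} : Set X) := by
  unfold letter
  split
  · exact subset_closure (by simp)
  · exact subset_closure (by simp)
  · exact inv_mem (subset_closure (by simp))
  · exact one_mem _

local notation "IP2" => 18364758544493064480

theorem covers_of_cert (a b : X) (ls : List (List ℕ)) (hlt : ∀ l ∈ ls, ∀ x ∈ l, x < 16)
    (h : ∀ l ∈ ls, (l.map (letter a b)).prod = 1) (lsub : List (List ℕ)) (hlsub : lsub = [[0, 1]])
    (F W S L E : Tr) (T : List Tr) (wb per N nf n : ℕ) (hT : T.length = 3) (hn : 0 < n)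
    (hWf : W.fits wb per = true) (hWe : listEq (W.entries wb per) (allCodes IP2 3 ls) = true)
    (hSf : S.fits wb per = true) (hSe : listEq (S.entries wb per) (subCodes IP2 lsub) = true)
    (hall : ∀ j < nf, ∃ item, checkFact F IP2 W wb S N j item = true)
    (hL : Nat.beq (L.get 20 0) 0 = true) (hrows : ∀ k < n, checkRow F IP2 L E n 3 nf k T 0 = true)
    (ha : a * a = 1) :
    CoversCosets (closure ({a, b} : Set X)) (zpowers (a * b)) n := by
  have hai : a⁻¹ = a := inv_eq_of_mul_eq_one_right ha
  refine coversCosets_of_cert (g := letter a b) (ip := IP2) rfl ?_ 3 (by omega) ?_ _ _ ?_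
    ls (fun l hl => ⟨hlt l hl, h l hl⟩) lsub ?_ F W S L E T wb per per N nf n hT hn hWf hWe hSf hSe hall hL hrows
  · have hv : ∀ x < 16, linv IP2 x = ([0, 2, 1, 3, 4, 5, 6, 7, 8, 9, 10, 11, 12, 13, 14, 15] : List ℕ).getD x 0 := by
      decide +kernel
    intro x hx
    rw [hv x hx]
    interval_cases x <;> simp [letter, hai]
  · intro x hx
    interval_cases x <;> first | exact Or.inl (by omega) | exact Or.inr rfl
  · refine closure_mono ?_
    rintro _ (rfl | rfl)
    · exact ⟨0, by simp, rfl⟩
    · exact ⟨1, by simp, rfl⟩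
  · subst hlsub
    intro l hl
    rw [List.mem_singleton] at hl
    subst hl
    exact ⟨by simp, by simp [letter]⟩

theorem card_le_of_covers (a b : X) {n m : ℕ} (p : ℕ) (hp0 : 0 < p) (hp : (a * b) ^ p = 1)
    (hc : CoversCosets (closure ({a, b} : Set X)) (zpowers (a * b)) n) (hm : m = n * p) :
    Finite (closure ({a, b} : Set X)) ∧ Nat.card (closure ({a, b} : Set X)) ≤ m := by
  have hfin : IsOfFinOrder (a * b) := isOfFinOrder_iff_pow_eq_one.mpr ⟨p, hp0, hp⟩
  refine card_le_step hc ⟨hfin.finite_zpowers.to_subtype, ?_⟩ hm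
  rw [Nat.card_zpowers]
  exact orderOf_le_of_pow_eq_one hp0 hp

/-- A pair of elements of `A × B` generating a group no larger than the simple group `B` gives an embedding of `B`. -/
theorem exists_embedding {A B : Type*} [Group A] [Group B] [Finite B] [IsSimpleGroup B] (a b : A × B)
    (h : Finite (closure ({a, b} : Set (A × B))) ∧ Nat.card (closure ({a, b} : Set (A × B))) ≤ Nat.card B)
    (htop : closure ({a.2, b.2} : Set B) = ⊤) (ha : a.1 ≠ 1) : ∃ f : B →* A, Function.Injective f := by
  obtain ⟨hfin, hle⟩ := h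
  let S : Subgroup (A × B) := closure {a, b}
  let f₂ : S →* B := (MonoidHom.snd A B).comp S.subtype
  let f₁ : S →* A := (MonoidHom.fst A B).comp S.subtype
  have hs₂ : Function.Surjective f₂ := by
    intro y
    have hy : y ∈ S.map (MonoidHom.snd A B) := by
      have : S.map (MonoidHom.snd A B) = ⊤ := by
        rw [show S = closure {a, b} from rfl, MonoidHom.map_closure, Set.image_pair]
        exact htop
      rw [this]; exact mem_top y
    obtain ⟨z, hz, rfl⟩ := hy
    exact ⟨⟨z, hz⟩, rfl⟩
  have : Finite S := hfin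
  have hb₂ : Function.Bijective f₂ := (Nat.bijective_iff_surjective_and_card f₂).mpr
    ⟨hs₂, le_antisymm hle (Nat.card_le_card_of_surjective f₂ hs₂)⟩
  let g : B →* A := f₁.comp (MulEquiv.ofBijective f₂ hb₂).symm.toMonoidHom
  refine ⟨g, g.ker_eq_bot_iff.mp ?_⟩
  rcases (inferInstance : g.ker.Normal).eq_bot_or_eq_top with hk | hk
  · exact hk
  · exfalso
    refine ha ?_
    have hmem : g (f₂ ⟨a, subset_closure (by simp)⟩) = 1 := MonoidHom.mem_ker.mp (hk ▸ mem_top _)
    have he : g (f₂ ⟨a, subset_closure (by simp)⟩) = a.1 := by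
      show f₁ ((MulEquiv.ofBijective f₂ hb₂).symm ((MulEquiv.ofBijective f₂ hb₂) ⟨a, subset_closure (by simp)⟩)) = a.1
      rw [MulEquiv.symm_apply_apply]
      rfl
    exact he.symm.trans hmem

/-- A subgroup of very small index of a simple group is everything. -/
theorem eq_top_of_dvd {G : Type*} [Group G] [Finite G] [IsSimpleGroup G] (D : Subgroup G) {N i : ℕ}
    (hN : N ∣ Nat.card D) (hc : Nat.card G = N * i) (hbig : i.factorial < Nat.card G) : D = ⊤ := by
  classical
  by_contra hne
  have hidx : D.index ≤ i := by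
    have h := D.card_mul_index
    obtain ⟨q, hq⟩ := hN
    rw [hq, hc, mul_assoc] at h
    have hN0 : 0 < N := Nat.pos_of_ne_zero fun e => by
      rw [e, zero_mul] at hc; exact absurd hc Nat.card_pos.ne'
    have := Nat.eq_of_mul_eq_mul_left hN0 h
    rw [← this]
    exact Nat.le_mul_of_pos_left _ (Nat.pos_of_ne_zero fun e => by
      rw [e, mul_zero] at hq; exact absurd hq Nat.card_pos.ne')
  have : Finite (G ⧸ D) := Quotient.finite _
  have hker : (MulAction.toPermHom G (G ⧸ D)).ker = ⊥ := by
    rcases (inferInstance : (MulAction.toPermHom G (G ⧸ D)).ker.Normal).eq_bot_or_eq_top with h | h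
    · exact h
    · refine absurd (eq_top_iff.mpr ?_) hne
      intro x _
      have hx : MulAction.toPermHom G (G ⧸ D) x = 1 := MonoidHom.mem_ker.mp (h ▸ mem_top x)
      have := Equiv.ext_iff.mp hx ((1 : G) : G ⧸ D)
      simp only [MulAction.toPermHom_apply, MulAction.toPerm_apply, Equiv.Perm.coe_one, id_eq] at this
      rw [MulAction.Quotient.smul_coe, smul_eq_mul, mul_one, QuotientGroup.eq] at this
      simpa using D.inv_mem this
  have h1 := Nat.card_le_card_of_injective _ ((MonoidHom.ker_eq_bot_iff _).mp hker)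
  rw [Nat.card_perm] at h1
  have h2 : (Nat.card (G ⧸ D)).factorial ≤ i.factorial := Nat.factorial_le hidx
  omega

/-- An element of exact prime power order in a subgroup divides its order. -/
theorem dvd_card_of_pow {G : Type*} [Group G] {D : Subgroup G} {x : G} (hx : x ∈ D) {n : ℕ}
    (hn : orderOf x = n) : n ∣ Nat.card D := by
  rw [← hn, ← Subgroup.orderOf_mk x hx]
  exact orderOf_dvd_natCard _

end CfsgLib.CosetEnum.ON.Sub
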